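import Groth.Agent.UnitInfLib.Alg
import Groth.Agent.GrpPtsLib.FlatAt

/-! Infinitesimal points at the unit of a monoid scheme are invertible, and consequences. -/

set_option autoImplicit false
set_option backward.isDefEq.respectTransparency false

universe u

open CategoryTheory MonoidalCategory CartesianMonoidalCategory MonObj AlgebraicGeometry Limits IsLocalRing

noncomputable section

namespace Groth.Agent.UnitInfLib

variable {k : Type u} [Field k]

/-- The spectrum of a `k`-algebra over `k`. -/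
abbrev Sp (D : Type u) [CommRing D] [Algebra k D] : Over (Spec (CommRingCat.of k)) :=
  Over.mk (Spec.map (CommRingCat.ofHom (algebraMap k D)))

/-- The map of spectra over `k`. -/
abbrev SpMap {D E : Type u} [CommRing D] [Algebra k D] [CommRing E] [Algebra k E] (f : D →ₐ[k] E) :
    Sp (k := k) E ⟶ Sp (k := k) D :=
  Over.homMk (Spec.map (CommRingCat.ofHom f.toRingHom)) (by
    show Spec.map _ ≫ Spec.map _ = Spec.map _
    rw [← Spec.map_comp]
    exact congrArg Spec.map (CommRingCat.hom_ext f.comp_algebraMap))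

theorem SpMap_comp {D E F : Type u} [CommRing D] [Algebra k D] [CommRing E] [Algebra k E] [CommRing F] [Algebra k F]
    (f : D →ₐ[k] E) (g : E →ₐ[k] F) : SpMap g ≫ SpMap f = SpMap (g.comp f) :=
  Over.OverMorphism.ext (Spec.map_comp _ _).symm

theorem SpMap_id {D : Type u} [CommRing D] [Algebra k D] : SpMap (AlgHom.id k D) = 𝟙 (Sp (k := k) D) :=
  Over.OverMorphism.ext (Spec.map_id _)

/-- A point of `X` with values in a local ring factors through the stalk at the image of the closed point. -/
theorem exists_factor {X : Scheme.{u}} {D : CommRingCat.{u}} [IsLocalRing D] (g : Spec D ⟶ X) {x : X}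
    (hx : g (closedPoint D) = x) :
    ∃ φ : X.presheaf.stalk x ⟶ D, IsLocalHom φ.hom ∧ Spec.map φ ≫ X.fromSpecStalk x = g := by
  subst hx
  exact ⟨Scheme.stalkClosedPointTo g, inferInstance, Scheme.Spec_stalkClosedPointTo_fromSpecStalk g⟩

theorem specMap_fromSpecStalk_injective {X : Scheme.{u}} {x : X} {D : CommRingCat.{u}}
    {f g : X.presheaf.stalk x ⟶ D}
    (h : Spec.map f ≫ X.fromSpecStalk x = Spec.map g ≫ X.fromSpecStalk x) : f = g :=
  Spec.map_injective ((cancel_mono _).mp h)

theorem isUnit_comp {M : Over (Spec (CommRingCat.of k))} [MonObj M] {S T : Over (Spec (CommRingCat.of k))}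
    (f : S ⟶ T) {x : T ⟶ M} (hx : IsUnit x) : IsUnit (f ≫ x) := by
  obtain ⟨u, rfl⟩ := hx
  exact ⟨⟨f ≫ ↑u, f ≫ ↑u⁻¹, by rw [← MonObj.comp_mul, u.mul_inv, MonObj.comp_one],
    by rw [← MonObj.comp_mul, u.inv_mul, MonObj.comp_one]⟩, rfl⟩

section Unit

variable {M : Over (Spec (CommRingCat.of k))} [MonObj M]

/-- A universal infinitesimal point at the unit of a monoid scheme is invertible. -/
theorem isUnit_of_universal {R : Type u} [CommRing R] [Algebra k R] (ε : R →ₐ[k] k) (n : ℕ) (hn : 0 < n)
    (hR : RingHom.ker ε ^ n = ⊥) (p : Sp (k := k) R ⟶ M) (hp : SpMap ε ≫ p = 1) [Mono p]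
    (huniv : ∀ (D : Type u) [CommRing D] [Algebra k D] (e : D →ₐ[k] k), RingHom.ker e ^ n = ⊥ →
      ∀ g : Sp (k := k) D ⟶ M, SpMap e ≫ g = 1 → ∃ h : R →ₐ[k] D, SpMap h ≫ p = g ∧ e.comp h = ε) :
    IsUnit p := by
  have hinj : ∀ f g : R →ₐ[k] R, SpMap f ≫ p = SpMap g ≫ p → f = g := fun f g h => by
    have := congrArg CommaMorphism.left ((cancel_mono p).mp h)
    exact AlgHom.coe_ringHom_injective (congrArg CommRingCat.Hom.hom (Spec.map_injective this))
  have right : ∀ (f : R →ₐ[k] R), ε.comp f = ε → ∃ f' : R →ₐ[k] R, ε.comp f' = ε ∧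
      (SpMap f ≫ p) * (SpMap f' ≫ p) = 1 := by
    intro f hf
    let a := SpMap (inl ε n) ≫ p
    let b := SpMap (inr ε n) ≫ p
    have hC := ker_augT_pow ε n hn
    obtain ⟨h, hh, hhε⟩ := huniv (T2 ε n) (augT ε n hn) hC (a * b) (by
      rw [MonObj.comp_mul, ← Category.assoc, ← Category.assoc, SpMap_comp, SpMap_comp, augT_inl, augT_inr, hp,
        _root_.one_mul])
    let Φ := lift2 ε n (augT ε n hn) hC (inl ε n) h (augT_inl ε n hn) hhε
    have hΦr : Φ.comp (inr ε n) = h := lift2_inr ..
    have hΦl : Φ.comp (inl ε n) = inl ε n := lift2_inl ..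
    have hres : (res ε n hR).comp h = AlgHom.id k R := by
      apply hinj
      rw [← SpMap_comp, Category.assoc, hh, MonObj.comp_mul, ← Category.assoc, ← Category.assoc, SpMap_comp,
        SpMap_comp]
      rw [show (res ε n hR).comp (inl ε n) = (Algebra.ofId k R).comp ε from lift2_inl ..,
        show (res ε n hR).comp (inr ε n) = AlgHom.id k R from lift2_inr .., ← SpMap_comp, Category.assoc, hp,
        MonObj.comp_one, _root_.one_mul]
    have hΦ : Function.Bijective Φ := bijective_of_res ε n hR Φ hΦl (algHom_ext ε n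
      (by rw [AlgHom.comp_assoc, hΦl])
      (by rw [AlgHom.comp_assoc, hΦr, hres]; exact (lift2_inr ..).symm))
    let e := AlgEquiv.ofBijective Φ hΦ
    -- the section given by `f` and the origin
    let sec : T2 ε n →ₐ[k] R := lift2 ε n ε hR f ((Algebra.ofId k R).comp ε) hf
      (AlgHom.ext fun r => by simp [Algebra.ofId_apply])
    let ψ : T2 ε n →ₐ[k] R := sec.comp e.symm.toAlgHom
    have hψΦ : ψ.comp Φ = sec := AlgHom.ext fun c => congrArg sec (e.symm_apply_apply c)
    have hψl : ψ.comp (inl ε n) = f := by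
      conv_lhs => rw [← hΦl, ← AlgHom.comp_assoc, hψΦ]
      exact lift2_inl ..
    have haug : ε.comp sec = augT ε n hn := algHom_ext ε n
      (by rw [AlgHom.comp_assoc, augT_inl, show sec.comp (inl ε n) = f from lift2_inl .., hf])
      (by
        rw [AlgHom.comp_assoc, augT_inr, show sec.comp (inr ε n) = (Algebra.ofId k R).comp ε from lift2_inr ..]
        exact AlgHom.ext fun r => by simp [Algebra.ofId_apply])
    have hψaug : ε.comp ψ = augT ε n hn := by
      have hΦaug : (augT ε n hn).comp Φ = augT ε n hn := algHom_ext ε n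
        (by rw [AlgHom.comp_assoc, hΦl]) (by rw [AlgHom.comp_assoc, hΦr, hhε, augT_inr])
      refine AlgHom.ext fun c => ?_
      obtain ⟨c', rfl⟩ := hΦ.2 c
      rw [← AlgHom.comp_apply, AlgHom.comp_assoc, hψΦ, haug, ← AlgHom.comp_apply, hΦaug]
    refine ⟨ψ.comp (inr ε n), by rw [← AlgHom.comp_assoc, hψaug, augT_inr], ?_⟩
    have h1 := congrArg (SpMap ψ ≫ ·) hh
    simp only [MonObj.comp_mul, a, b, ← Category.assoc, SpMap_comp, hψl] at h1
    rw [← h1, ← hΦr, ← AlgHom.comp_assoc, hψΦ,
      show sec.comp (inr ε n) = (Algebra.ofId k R).comp ε from lift2_inr .., ← SpMap_comp, Category.assoc, hp,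
      MonObj.comp_one]
  obtain ⟨f, hf, h1⟩ := right (AlgHom.id k R) (AlgHom.comp_id ε)
  rw [SpMap_id, Category.id_comp] at h1
  obtain ⟨f', -, h2⟩ := right f hf
  exact ⟨⟨p, SpMap f ≫ p, h1, by rwa [← left_inv_eq_right_inv h1 h2] at h2⟩, rfl⟩

/-- At the unit, the inclusion of the units is an isomorphism modulo every power of the maximal ideal. -/
theorem infinitesimal [LocallyOfFiniteType M.hom] {G : Over (Spec (CommRingCat.of k))} (i : G ⟶ M) [Mono i]
    (hi : ∀ (T : Over (Spec (CommRingCat.of k))) (m : T ⟶ M), (∃ g : T ⟶ G, g ≫ i = m) ↔ IsUnit m)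
    (q : G.left) (hq : i.left q = η[M].left (closedPoint k)) (n : ℕ) :
    Function.Surjective ((Ideal.Quotient.mk (maximalIdeal (G.left.presheaf.stalk q) ^ (n + 1))).comp
        (i.left.stalkMap q).hom) ∧
      ∀ a, (i.left.stalkMap q).hom a ∈ maximalIdeal (G.left.presheaf.stalk q) ^ (n + 1) ↔
        a ∈ maximalIdeal (M.left.presheaf.stalk (i.left q)) ^ (n + 1) := by
  haveI : Mono i.left := Over.mono_left_of_mono i
  let N := n + 1
  have hN : 0 < N := n.succ_pos
  let x := i.left q
  let A := M.left.presheaf.stalk x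
  let B := G.left.presheaf.stalk q
  let σ := (i.left.stalkMap q).hom
  obtain ⟨ε₀, hε₀l, hε₀⟩ := exists_factor (D := CommRingCat.of k) η[M].left (x := x) hq.symm
  let φ₀ : CommRingCat.of k ⟶ A := Spec.preimage (M.left.fromSpecStalk x ≫ M.hom)
  have hεφ : φ₀ ≫ ε₀ = 𝟙 _ := Spec.map_injective (by
    rw [Spec.map_comp, Spec.map_preimage, reassoc_of% hε₀, Over.w η[M], Spec.map_id]
    rfl)
  letI : Algebra k A := φ₀.hom.toAlgebra
  let εA : A →ₐ[k] k := { ε₀.hom with commutes' := fun r => congrArg (fun g => g.hom r) hεφ }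
  have hkerA : RingHom.ker εA = maximalIdeal A := by
    haveI : IsLocalHom ε₀.hom := hε₀l
    ext a
    show ε₀.hom a = 0 ↔ _
    rw [mem_maximalIdeal, mem_nonunits_iff, ← isUnit_map_iff ε₀.hom, isUnit_iff_ne_zero, not_not]
  let J := maximalIdeal A ^ N
  let R := A ⧸ J
  let εR : R →ₐ[k] k := Ideal.Quotient.liftₐ J εA fun a ha => by
    have := Ideal.pow_le_self (I := maximalIdeal A) hN.ne' ha
    rw [← hkerA] at this
    exact this
  have hkerR : RingHom.ker εR = (maximalIdeal A).map (Ideal.Quotient.mk J) := by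
    ext z
    obtain ⟨z, rfl⟩ := Ideal.Quotient.mk_surjective z
    rw [Ideal.mem_map_iff_of_surjective _ Ideal.Quotient.mk_surjective, ← hkerA]
    constructor
    · exact fun hz => ⟨z, hz, rfl⟩
    · rintro ⟨w, hw, e⟩
      have h' : εR (Ideal.Quotient.mk J w) = 0 := hw
      rw [e] at h'
      exact h'
  have hR : RingHom.ker εR ^ N = ⊥ := by rw [hkerR, ← Ideal.map_pow]; exact Ideal.map_quotient_self _
  let mkA : A ⟶ CommRingCat.of R := CommRingCat.ofHom (Ideal.Quotient.mk J)
  let p : Sp (k := k) R ⟶ M := Over.homMk (Spec.map mkA ≫ M.left.fromSpecStalk x) (by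
    show (Spec.map mkA ≫ M.left.fromSpecStalk x) ≫ M.hom = Spec.map _
    rw [Category.assoc, ← Spec.map_preimage (M.left.fromSpecStalk x ≫ M.hom), ← Spec.map_comp]
    rfl)
  haveI : IsClosedImmersion (Spec.map mkA) := IsClosedImmersion.spec_of_surjective _ Ideal.Quotient.mk_surjective
  haveI : Mono p.left := inferInstanceAs (Mono (Spec.map mkA ≫ M.left.fromSpecStalk x))
  haveI : Mono p := Over.mono_of_mono_left p
  have hone : ∀ {D : Type u} [CommRing D] [Algebra k D],
      (1 : Sp (k := k) D ⟶ M).left = Spec.map (CommRingCat.ofHom (algebraMap k D)) ≫ η[M].left := by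
    intro D _ _
    rw [Hom.one_def]
    rfl
  have hp : SpMap εR ≫ p = 1 := by
    apply Over.OverMorphism.ext
    rw [hone, Over.comp_left]
    show Spec.map _ ≫ Spec.map mkA ≫ M.left.fromSpecStalk x = _
    rw [← hε₀, ← Category.assoc, ← Category.assoc, ← Spec.map_comp, ← Spec.map_comp]
    congr 2
  have huniv : ∀ (D : Type u) [CommRing D] [Algebra k D] (e : D →ₐ[k] k), RingHom.ker e ^ N = ⊥ →
      ∀ g : Sp (k := k) D ⟶ M, SpMap e ≫ g = 1 → ∃ h : R →ₐ[k] D, SpMap h ≫ p = g ∧ e.comp h = εR := by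
    intro D _ _ e hD g hg
    haveI : (RingHom.ker e).IsMaximal :=
      RingHom.ker_isMaximal_of_surjective _ fun r => ⟨algebraMap k D r, e.commutes r⟩
    haveI hloc : IsLocalRing D := .of_unique_max_ideal ⟨_, ‹_›, fun I hI => by
      have h1 : RingHom.ker e ≤ I := hI.isPrime.le_of_pow_le (hD.trans_le bot_le)
      exact (Ideal.IsMaximal.eq_of_le inferInstance hI.ne_top h1).symm⟩
    have hpt : g.left (closedPoint D) = x := by
      have h1 := congrArg (fun m => m.left (closedPoint k)) hg
      have h2 : (SpMap e).left (closedPoint k) = closedPoint D := by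
        apply PrimeSpectrum.ext
        show (maximalIdeal k).comap e.toRingHom = maximalIdeal D
        rw [IsLocalRing.maximalIdeal_eq_bot]
        exact IsLocalRing.eq_maximalIdeal ‹(RingHom.ker e).IsMaximal›
      refine (congrArg g.left h2).symm.trans (h1.trans ?_)
      show (1 : Sp (k := k) k ⟶ M).left (closedPoint k) = _
      rw [hone, Scheme.Hom.comp_apply]
      exact (congrArg η[M].left (Subsingleton.elim (α := PrimeSpectrum k) _ _)).trans hq.symm
    obtain ⟨φ, hφl, hφ⟩ := exists_factor (D := CommRingCat.of D) g.left hpt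
    have hφk : ∀ r, φ.hom (algebraMap k A r) = algebraMap k D r := by
      have : φ₀ ≫ φ = CommRingCat.ofHom (algebraMap k D) := Spec.map_injective (by
        rw [Spec.map_comp, Spec.map_preimage, reassoc_of% hφ, Over.w g]
        rfl)
      exact fun r => congrArg (fun m => m.hom r) this
    let φa : A →ₐ[k] D := { φ.hom with commutes' := hφk }
    have hφm : maximalIdeal A ≤ (RingHom.ker e).comap φ.hom := by
      intro a ha
      haveI : IsLocalHom φ.hom := hφl
      rw [Ideal.mem_comap, IsLocalRing.eq_maximalIdeal ‹(RingHom.ker e).IsMaximal›]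
      exact map_nonunit φ.hom a ha
    let h : R →ₐ[k] D := Ideal.Quotient.liftₐ J φa fun a ha => by
      have := Ideal.le_comap_pow _ N (Ideal.pow_right_mono hφm N ha)
      rw [hD] at this
      exact Ideal.mem_bot.mp this
    refine ⟨h, Over.OverMorphism.ext ?_, Ideal.Quotient.algHom_ext k (AlgHom.ext fun a => ?_)⟩
    · show Spec.map _ ≫ Spec.map mkA ≫ M.left.fromSpecStalk x = g.left
      rw [← Category.assoc, ← Spec.map_comp, ← hφ]
      congr 2
    · show e (φ.hom a) = εA a
      have ha : a - algebraMap k A (εA a) ∈ maximalIdeal A := by rw [← hkerA]; simp [RingHom.mem_ker]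
      have := hφm ha
      rwa [Ideal.mem_comap, RingHom.mem_ker, map_sub, map_sub, hφk, AlgHom.commutes, sub_eq_zero] at this
  obtain ⟨gp, hgp⟩ := (hi _ p).mpr (isUnit_of_universal εR N hN hR p hp huniv)
  haveI : IsLocalRing R := by
    haveI : Nontrivial R := εR.toRingHom.domain_nontrivial
    exact .of_surjective' (Ideal.Quotient.mk J) Ideal.Quotient.mk_surjective
  have hptR : gp.left (closedPoint R) = q := by
    apply i.left.injective
    rw [← Scheme.Hom.comp_apply, ← Over.comp_left, hgp]
    show (Spec.map mkA ≫ M.left.fromSpecStalk x) (closedPoint R) = x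
    rw [Scheme.Hom.comp_apply]
    haveI : IsLocalHom mkA.hom := IsLocalHom.of_surjective _ Ideal.Quotient.mk_surjective
    rw [show Spec.map mkA (closedPoint R) = closedPoint A from comap_closedPoint mkA.hom,
      Scheme.fromSpecStalk_closedPoint]
  obtain ⟨ψ, hψl, hψ⟩ := exists_factor (D := CommRingCat.of R) gp.left hptR
  have hψσ : i.left.stalkMap q ≫ ψ = mkA := specMap_fromSpecStalk_injective (by
    rw [Spec.map_comp, Category.assoc, Scheme.SpecMap_stalkMap_fromSpecStalk, reassoc_of% hψ, ← Over.comp_left,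
      hgp]
    rfl)
  have hψm : maximalIdeal B ≤ (maximalIdeal R).comap ψ.hom := fun b hb => by
    haveI : IsLocalHom ψ.hom := hψl
    exact map_nonunit ψ.hom b hb
  have hRm : maximalIdeal R ^ N = ⊥ := by
    haveI : (RingHom.ker εR).IsMaximal :=
      RingHom.ker_isMaximal_of_surjective _ fun r => ⟨algebraMap k R r, εR.commutes r⟩
    rw [← IsLocalRing.eq_maximalIdeal ‹(RingHom.ker εR).IsMaximal›]
    exact hR
  have hle : maximalIdeal A ≤ (maximalIdeal B).comap σ := fun a ha => map_nonunit σ a ha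
  let J' := maximalIdeal B ^ N
  let σbar : CommRingCat.of R ⟶ CommRingCat.of (B ⧸ J') :=
    CommRingCat.ofHom (Ideal.Quotient.lift J ((Ideal.Quotient.mk J').comp σ) fun a ha => by
      rw [RingHom.comp_apply, Ideal.Quotient.eq_zero_iff_mem]
      exact Ideal.le_comap_pow _ N (Ideal.pow_right_mono hle N ha))
  have hσbar : mkA ≫ σbar = i.left.stalkMap q ≫ CommRingCat.ofHom (Ideal.Quotient.mk J') := rfl
  have hkey : ψ ≫ σbar = CommRingCat.ofHom (Ideal.Quotient.mk J') := specMap_fromSpecStalk_injective (by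
    rw [← cancel_mono i.left]
    simp only [Spec.map_comp, Category.assoc]
    rw [reassoc_of% hψ, ← Over.comp_left, hgp, ← Scheme.SpecMap_stalkMap_fromSpecStalk, ← Spec.map_comp_assoc,
      ← hσbar, Spec.map_comp, Category.assoc]
    rfl)
  refine ⟨fun y => ?_, fun a => ⟨fun ha => ?_, fun ha => Ideal.le_comap_pow _ N (Ideal.pow_right_mono hle N ha)⟩⟩
  · obtain ⟨b, rfl⟩ := Ideal.Quotient.mk_surjective y
    obtain ⟨a, ha⟩ := Ideal.Quotient.mk_surjective (ψ.hom b)
    refine ⟨a, ?_⟩
    show Ideal.Quotient.mk J' (σ a) = Ideal.Quotient.mk J' b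
    calc Ideal.Quotient.mk J' (σ a) = σbar.hom (mkA.hom a) := rfl
      _ = σbar.hom (ψ.hom b) := congrArg σbar.hom ha
      _ = _ := congrArg (fun m => m.hom b) hkey
  · have h1 : ψ.hom (σ a) ∈ maximalIdeal R ^ N := Ideal.le_comap_pow _ N (Ideal.pow_right_mono hψm N ha)
    rw [hRm, Ideal.mem_bot] at h1
    have h2 : mkA.hom a = 0 := by rw [← hψσ]; exact h1
    exact Ideal.Quotient.eq_zero_iff_mem.mp h2

end Unit

open GrpSchLib FlatDescStalk in
/-- The inclusion of the units of a monoid scheme is flat if it is flat at one point. -/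
theorem flat_of_flat_at {M G : Over (Spec (CommRingCat.of k))} [MonObj M] (i : G ⟶ M) [Mono i]
    (hi : ∀ (T : Over (Spec (CommRingCat.of k))) (m : T ⟶ M), (∃ g : T ⟶ G, g ≫ i = m) ↔ IsUnit m)
    (p : G.left) (hp0 : (i.left.stalkMap p).hom.Flat) : Flat i.left := by
  have hu : ∀ {T : Over (Spec (CommRingCat.of k))} (g : T ⟶ G), IsUnit (g ≫ i) := fun g => (hi _ _).mp ⟨g, rfl⟩
  refine Flat.of_stalkMap _ fun g => ?_
  obtain ⟨r, hr1, hr2⟩ := Scheme.Pullback.exists_preimage_pullback (f := G.hom) (g := G.hom) g p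
    (Subsingleton.elim (α := PrimeSpectrum k) _ _)
  let P : Over (Spec (CommRingCat.of k)) := G ⊗ G
  let R : P.left := r
  let T : Over (Spec (CommRingCat.of k)) := Over.mk (P.left.fromSpecResidueField R ≫ P.hom)
  let h : T ⟶ P := Over.homMk (P.left.fromSpecResidueField R)
  let cg : T ⟶ G := h ≫ fst G G
  let cp : T ⟶ G := h ≫ snd G G
  let pt : T.left := closedPoint (P.left.residueField R)
  have hh : h.left pt = R := Scheme.fromSpecResidueField_apply R pt
  have hcg : cg.left pt = g := by
    rw [Over.comp_left, Scheme.Hom.comp_apply, hh]; exact hr1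
  have hcp : cp.left pt = p := by
    rw [Over.comp_left, Scheme.Hom.comp_apply, hh]; exact hr2
  obtain ⟨v, hv⟩ : IsUnit ((↑(hu cp).unit⁻¹ : T ⟶ M) * (cg ≫ i)) := ((hu cp).unit⁻¹).isUnit.mul (hu cg)
  let τ : M ⊗ T ≅ M ⊗ T :=
    { hom := lift (fst M T * (snd M T ≫ ↑v)) (snd M T)
      inv := lift (fst M T * (snd M T ≫ ↑v⁻¹)) (snd M T)
      hom_inv_id := by
        apply CartesianMonoidalCategory.hom_ext
        · rw [Category.assoc, lift_fst, MonObj.comp_mul, lift_fst, ← Category.assoc, lift_snd, _root_.mul_assoc,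
            ← MonObj.comp_mul, v.mul_inv, MonObj.comp_one, _root_.mul_one, Category.id_comp]
        · simp
      inv_hom_id := by
        apply CartesianMonoidalCategory.hom_ext
        · rw [Category.assoc, lift_fst, MonObj.comp_mul, lift_fst, ← Category.assoc, lift_snd, _root_.mul_assoc,
            ← MonObj.comp_mul, v.inv_mul, MonObj.comp_one, _root_.mul_one, Category.id_comp]
        · simp }
  obtain ⟨a, ha⟩ := (hi _ _).mpr ((hu (fst G T)).mul (isUnit_comp (snd G T) v.isUnit))
  obtain ⟨b, hb⟩ := (hi _ _).mpr ((hu (fst G T)).mul (isUnit_comp (snd G T) v⁻¹.isUnit))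
  have hnat : lift a (snd G T) ≫ i ▷ T = i ▷ T ≫ τ.hom := by
    apply CartesianMonoidalCategory.hom_ext
    · simp [τ, ha, MonObj.comp_mul]
    · simp [τ]
  let σ : G ⊗ T ≅ G ⊗ T :=
    { hom := lift a (snd G T)
      inv := lift b (snd G T)
      hom_inv_id := by
        apply CartesianMonoidalCategory.hom_ext
        · rw [← cancel_mono i, Category.assoc, Category.assoc, lift_fst_assoc, hb, MonObj.comp_mul, lift_fst_assoc, ha,
            ← Category.assoc, lift_snd, _root_.mul_assoc, ← MonObj.comp_mul, v.mul_inv, MonObj.comp_one,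
            _root_.mul_one, Category.id_comp]
        · simp
      inv_hom_id := by
        apply CartesianMonoidalCategory.hom_ext
        · rw [← cancel_mono i, Category.assoc, Category.assoc, lift_fst_assoc, ha, MonObj.comp_mul, lift_fst_assoc, hb,
            ← Category.assoc, lift_snd, _root_.mul_assoc, ← MonObj.comp_mul, v.inv_mul, MonObj.comp_one,
            _root_.mul_one, Category.id_comp]
        · simp }
  let p' := (lift cp (𝟙 T)).left pt
  let g' := (lift cg (𝟙 T)).left pt
  have hsec : lift cp (𝟙 T) ≫ σ.hom = lift cg (𝟙 T) := by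
    apply CartesianMonoidalCategory.hom_ext
    · rw [← cancel_mono i, Category.assoc, Category.assoc, lift_fst_assoc, ha, MonObj.comp_mul, lift_fst_assoc,
        lift_snd_assoc, Category.id_comp, hv, ← _root_.mul_assoc, IsUnit.mul_val_inv, _root_.one_mul, lift_fst]
    · simp [σ]
  have hp' : (fst G T).left p' = p := by
    rw [← Scheme.Hom.comp_apply, ← Over.comp_left, lift_fst, hcp]
  have hg' : (fst G T).left g' = g := by
    rw [← Scheme.Hom.comp_apply, ← Over.comp_left, lift_fst, hcg]
  have hsq : IsPullback (fst G T).left (i ▷ T).left i.left (fst M T).left := by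
    refine IsPullback.of_bot (v₂₁ := (snd M T).left) (v₂₂ := M.hom) (h₃₁ := T.hom) ?_ ?_
      GrpSchLib.isPullback_fst_snd
    · rw [← Over.comp_left, whiskerRight_snd, Over.w]
      exact GrpSchLib.isPullback_fst_snd
    · rw [← Over.comp_left, ← Over.comp_left, whiskerRight_fst]
  have hfp : ((i ▷ T).left.stalkMap p').hom.Flat := CMFlatLib.flat_stalkMap_baseChange hsq p' (hp'.symm ▸ hp0)
  haveI : IsIso σ.hom.left := ((Over.forget _).mapIso σ).isIso_hom
  haveI : IsIso τ.hom.left := ((Over.forget _).mapIso τ).isIso_hom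
  have hcomp : ((σ.hom.left ≫ (i ▷ T).left).stalkMap p').hom.Flat := by
    rw [← Over.comp_left, hnat, Over.comp_left]
    exact (flat_stalkMap_comp_iff _ _ p' hfp).mpr (Flat.stalkMap _ _)
  have hfg : ((i ▷ T).left.stalkMap g').hom.Flat := by
    have := (flat_stalkMap_comp_iff σ.hom.left (i ▷ T).left p' (Flat.stalkMap _ _)).mp hcomp
    rwa [show σ.hom.left p' = g' by rw [← Scheme.Hom.comp_apply, ← Over.comp_left, hsec]] at this
  haveI : Flat (fst M T).left :=
    MorphismProperty.of_isPullback (P := @Flat) GrpSchLib.isPullback_fst_snd.flip MonoFibre.flat_to_spec_field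
  haveI : Flat (fst G T).left :=
    MorphismProperty.of_isPullback (P := @Flat) GrpSchLib.isPullback_fst_snd.flip MonoFibre.flat_to_spec_field
  have h5 : (((fst G T).left ≫ i.left).stalkMap g').hom.Flat := by
    rw [hsq.w]
    exact (flat_stalkMap_comp_iff _ _ g' hfg).mpr (Flat.stalkMap _ _)
  have := (flat_stalkMap_comp_iff (fst G T).left i.left g' (Flat.stalkMap _ _)).mp h5
  rwa [hg'] at this

end Groth.Agent.UnitInfLib
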