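import Mathlib

/-! A truncated tensor square and its translation endomorphism. -/

set_option autoImplicit false

universe u

open TensorProduct

noncomputable section

namespace Groth.Agent.UnitInfLib

variable {k R : Type u} [Field k] [CommRing R] [Algebra k R] (ε : R →ₐ[k] k) (n : ℕ)

/-- The augmentation of the tensor square. -/
def aug2 : R ⊗[k] R →ₐ[k] k :=
  Algebra.TensorProduct.lift ε ε fun _ _ => mul_comm _ _

theorem aug2_tmul (r a : R) : aug2 ε (r ⊗ₜ a) = ε r * ε a := Algebra.TensorProduct.lift_tmul _ _ _ _ _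

/-- The tensor square modulo the `n`-th power of the augmentation ideal. -/
abbrev T2 : Type u := (R ⊗[k] R) ⧸ RingHom.ker (aug2 ε) ^ n

/-- The first factor. -/
def inl : R →ₐ[k] T2 ε n := (Ideal.Quotient.mkₐ k _).comp Algebra.TensorProduct.includeLeft

/-- The second factor. -/
def inr : R →ₐ[k] T2 ε n := (Ideal.Quotient.mkₐ k _).comp Algebra.TensorProduct.includeRight

theorem mk_tmul (r a : R) : (Ideal.Quotient.mk _ (r ⊗ₜ a) : T2 ε n) = inl ε n r * inr ε n a := by
  show Ideal.Quotient.mk _ _ = Ideal.Quotient.mk _ (r ⊗ₜ 1) * Ideal.Quotient.mk _ (1 ⊗ₜ a)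
  rw [← map_mul, Algebra.TensorProduct.tmul_mul_tmul, mul_one, one_mul]

theorem algHom_ext {D : Type u} [CommRing D] [Algebra k D] {f g : T2 ε n →ₐ[k] D}
    (hl : f.comp (inl ε n) = g.comp (inl ε n)) (hr : f.comp (inr ε n) = g.comp (inr ε n)) : f = g :=
  Ideal.Quotient.algHom_ext k (Algebra.TensorProduct.ext hl hr)

/-- Maps out of the truncated square into an algebra with augmentation ideal of nilpotency `n`. -/
def lift2 {D : Type u} [CommRing D] [Algebra k D] (e : D →ₐ[k] k) (hD : RingHom.ker e ^ n = ⊥)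
    (f g : R →ₐ[k] D) (hf : e.comp f = ε) (hg : e.comp g = ε) : T2 ε n →ₐ[k] D :=
  Ideal.Quotient.liftₐ _ (Algebra.TensorProduct.lift f g fun _ _ => mul_comm _ _) (by
    intro a ha
    have h1 : RingHom.ker (aug2 ε) ≤ (RingHom.ker e).comap
        (Algebra.TensorProduct.lift f g fun _ _ => mul_comm _ _) := by
      intro z hz
      have h2 : e.comp (Algebra.TensorProduct.lift f g fun _ _ => mul_comm _ _) = aug2 ε := by
        refine Algebra.TensorProduct.ext ?_ ?_
        · ext r; simpa [aug2_tmul] using DFunLike.congr_fun hf r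
        · ext r; simpa [aug2_tmul] using DFunLike.congr_fun hg r
      show e (Algebra.TensorProduct.lift f g (fun _ _ => mul_comm _ _) z) = 0
      rw [← AlgHom.comp_apply, h2]
      exact hz
    have h3 := Ideal.le_comap_pow _ n (Ideal.pow_right_mono h1 n ha)
    rw [hD] at h3
    exact Ideal.mem_bot.mp h3)

theorem lift2_inl {D : Type u} [CommRing D] [Algebra k D] (e : D →ₐ[k] k) (hD : RingHom.ker e ^ n = ⊥)
    (f g : R →ₐ[k] D) (hf : e.comp f = ε) (hg : e.comp g = ε) : (lift2 ε n e hD f g hf hg).comp (inl ε n) = f := by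
  ext r
  show Algebra.TensorProduct.lift f g (fun _ _ => mul_comm _ _) (r ⊗ₜ 1) = f r
  simp

theorem lift2_inr {D : Type u} [CommRing D] [Algebra k D] (e : D →ₐ[k] k) (hD : RingHom.ker e ^ n = ⊥)
    (f g : R →ₐ[k] D) (hf : e.comp f = ε) (hg : e.comp g = ε) : (lift2 ε n e hD f g hf hg).comp (inr ε n) = g := by
  ext r
  show Algebra.TensorProduct.lift f g (fun _ _ => mul_comm _ _) (1 ⊗ₜ r) = g r
  simp

variable (hn : 0 < n)

/-- The augmentation of the truncated square. -/
def augT : T2 ε n →ₐ[k] k :=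
  Ideal.Quotient.liftₐ _ (aug2 ε) fun _ ha => Ideal.pow_le_self hn.ne' ha

theorem augT_inl : (augT ε n hn).comp (inl ε n) = ε := by
  ext r
  show aug2 ε (r ⊗ₜ 1) = ε r
  simp [aug2_tmul]

theorem augT_inr : (augT ε n hn).comp (inr ε n) = ε := by
  ext r
  show aug2 ε (1 ⊗ₜ r) = ε r
  simp [aug2_tmul]

theorem ker_augT_pow : RingHom.ker (augT ε n hn) ^ n = ⊥ := by
  have h : RingHom.ker (augT ε n hn) = (RingHom.ker (aug2 ε)).map (Ideal.Quotient.mk (RingHom.ker (aug2 ε) ^ n)) := by
    ext z
    obtain ⟨z, rfl⟩ := Ideal.Quotient.mk_surjective z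
    rw [Ideal.mem_map_iff_of_surjective _ Ideal.Quotient.mk_surjective]
    constructor
    · exact fun hz => ⟨z, hz, rfl⟩
    · rintro ⟨w, hw, e⟩
      have h' : augT ε n hn (Ideal.Quotient.mk _ w) = 0 := hw
      rw [e] at h'
      exact h'
  rw [h, ← Ideal.map_pow, Ideal.map_quotient_self]

/-- The restriction to the origin in the first factor. -/
def res (hR : RingHom.ker ε ^ n = ⊥) : T2 ε n →ₐ[k] R :=
  lift2 ε n ε hR ((Algebra.ofId k R).comp ε) (AlgHom.id k R)
    (AlgHom.ext fun r => by simp [Algebra.ofId_apply]) (AlgHom.comp_id _)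

theorem sub_inr_res_mem (hR : RingHom.ker ε ^ n = ⊥) (c : T2 ε n) :
    c - inr ε n (res ε n hR c) ∈ (RingHom.ker ε).map (inl ε n) := by
  obtain ⟨z, rfl⟩ := Ideal.Quotient.mk_surjective c
  induction z using TensorProduct.induction_on with
  | zero => simp
  | add a b ha hb =>
    rw [map_add, map_add, map_add]
    have := Ideal.add_mem _ ha hb
    convert this using 1
    ring
  | tmul r a =>
    have e : res ε n hR (Ideal.Quotient.mk _ (r ⊗ₜ[k] a)) = algebraMap k R (ε r) * a := by
      show Algebra.TensorProduct.lift ((Algebra.ofId k R).comp ε) (AlgHom.id k R) (fun _ _ => mul_comm _ _) (r ⊗ₜ[k] a) = _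
      simp [Algebra.ofId_apply]
    rw [e, map_mul, AlgHom.commutes, mk_tmul, ← AlgHom.commutes (inl ε n), ← sub_mul, ← map_sub]
    exact Ideal.mul_mem_right _ _ (Ideal.mem_map_of_mem _ (by simp [RingHom.mem_ker]))

/-- An endomorphism fixing the first factor which is the identity over the origin is bijective. -/
theorem bijective_of_res (hR : RingHom.ker ε ^ n = ⊥) (Φ : T2 ε n →ₐ[k] T2 ε n)
    (hl : Φ.comp (inl ε n) = inl ε n) (hres : (res ε n hR).comp Φ = res ε n hR) : Function.Bijective Φ := by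
  let I := (RingHom.ker ε).map (inl ε n)
  have h0 : ∀ c, c - Φ c ∈ I := fun c => by
    have h1 := sub_inr_res_mem ε n hR (c - Φ c)
    rwa [map_sub (res ε n hR), ← AlgHom.comp_apply (res ε n hR) Φ, hres, sub_self, map_zero, sub_zero] at h1
  have hj : ∀ (j : ℕ), ∀ c ∈ I ^ j, c - Φ c ∈ I ^ (j + 1) := by
    intro j c hc
    rw [show I ^ j = Ideal.span (inl ε n '' ((RingHom.ker ε ^ j : Ideal R) : Set R)) from
      (Ideal.map_pow _ _ _).symm] at hc
    induction hc using Submodule.span_induction with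
    | zero => simp
    | add a b _ _ ha hb => rw [map_add, add_sub_add_comm]; exact Ideal.add_mem _ ha hb
    | mem x hx =>
      obtain ⟨r, -, rfl⟩ := hx
      rw [← AlgHom.comp_apply, hl, sub_self]
      exact zero_mem _
    | smul a x hx hx' =>
      rw [smul_eq_mul, map_mul,
        show a * x - Φ a * Φ x = (a - Φ a) * x + Φ a * (x - Φ x) by ring]
      refine Ideal.add_mem _ ?_ (Ideal.mul_mem_left _ _ hx')
      show (a - Φ a) * x ∈ I ^ (j + 1)
      rw [Submodule.pow_succ, mul_comm (I ^ j)]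
      refine Ideal.mul_mem_mul (h0 a) ?_
      rw [show I ^ j = Ideal.span (inl ε n '' ((RingHom.ker ε ^ j : Ideal R) : Set R)) from
        (Ideal.map_pow _ _ _).symm]
      exact hx
  let δ : Module.End k (T2 ε n) := 1 - Φ.toLinearMap
  have hit : ∀ (j : ℕ) c, (δ ^ j) c ∈ I ^ j := by
    intro j
    induction j with
    | zero => simp
    | succ j ih =>
      intro c
      rw [pow_succ', Module.End.mul_apply]
      exact hj j _ (ih c)
  have hI : I ^ n = ⊥ := by
    show (Ideal.map _ _) ^ n = ⊥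
    rw [← Ideal.map_pow, hR, Ideal.map_bot]
  have hδ : IsNilpotent δ := ⟨n, LinearMap.ext fun c => by
    have := hit n c
    rw [hI, Ideal.mem_bot] at this
    exact this⟩
  have hu : IsUnit Φ.toLinearMap := by
    rw [show Φ.toLinearMap = 1 - δ from (sub_sub_cancel _ _).symm]
    exact hδ.isUnit_one_sub
  exact (Module.End.isUnit_iff _).mp hu

end Groth.Agent.UnitInfLib
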